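import Groth.Agent.Lib.DeRhamVan15.Basic

/-!
# A bounded complex with one visible term
-/

set_option autoImplicit false
set_option backward.isDefEq.respectTransparency false
set_option maxHeartbeats 800000
set_option linter.all false

universe w v u

open CategoryTheory CategoryTheory.Limits DerivedCategory

noncomputable section

namespace GrothLib.DeRhamPn28

section Homs

variable {D : Type u} [Category.{v} D] [Preadditive D]

/-- Postcomposition. -/
def postEquiv (Z : D) {X Y : D} (e : X ≅ Y) : (Z ⟶ X) ≃+ (Z ⟶ Y) where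
  toFun φ := φ ≫ e.hom
  invFun φ := φ ≫ e.inv
  left_inv φ := by simp
  right_inv φ := by simp
  map_add' φ ψ := Preadditive.add_comp _ _ _ _ _ _

variable [HasZeroObject D] [HasShift D ℤ] [∀ n : ℤ, (shiftFunctor D n).Additive] [Pretriangulated D]
open Pretriangulated

theorem nonempty_equiv_mor₂ (Z : D) (T : Triangle D) (hT : T ∈ distTriang D)
    (h₁ : ∀ φ : Z ⟶ T.obj₁, φ = 0) (h₁' : ∀ φ : Z ⟶ T.obj₁⟦(1 : ℤ)⟧, φ = 0) :
    Nonempty ((Z ⟶ T.obj₂) ≃+ (Z ⟶ T.obj₃)) := by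
  refine ⟨AddEquiv.ofBijective (Preadditive.rightComp Z T.mor₂) ⟨(injective_iff_map_eq_zero _).2 fun φ hφ => ?_,
    fun ψ => ?_⟩⟩
  · obtain ⟨χ, hχ⟩ := Triangle.coyoneda_exact₂ T hT φ hφ
    rw [hχ, h₁ χ, zero_comp]
  · obtain ⟨χ, hχ⟩ := Triangle.coyoneda_exact₃ T hT ψ (h₁' _)
    exact ⟨χ, hχ.symm⟩

theorem nonempty_equiv_mor₁ (Z : D) (T : Triangle D) (hT : T ∈ distTriang D)
    (h₃ : ∀ φ : Z ⟶ T.obj₃, φ = 0) (h₃' : ∀ φ : Z ⟶ T.obj₃⟦(-1 : ℤ)⟧, φ = 0) :
    Nonempty ((Z ⟶ T.obj₂) ≃+ (Z ⟶ T.obj₁)) := by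
  refine ⟨(AddEquiv.ofBijective (Preadditive.rightComp Z T.mor₁) ⟨(injective_iff_map_eq_zero _).2 fun φ hφ => ?_,
    fun ψ => ?_⟩).symm⟩
  · obtain ⟨χ, hχ⟩ := Triangle.coyoneda_exact₂ T.invRotate (inv_rot_of_distTriang _ hT) φ hφ
    rw [hχ, show χ = 0 from h₃' χ, zero_comp]
  · obtain ⟨χ, hχ⟩ := Triangle.coyoneda_exact₂ T hT ψ (h₃ _)
    exact ⟨χ, hχ.symm⟩

end Homs

variable {A : Type u} [Category.{v} A] [Abelian A] [HasDerivedCategory.{w} A]

theorem nonempty_Q_iso_single (K : CochainComplex A ℤ) (a : ℤ) [K.IsStrictlyGE a] [K.IsStrictlyLE a] :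
    Nonempty (DerivedCategory.Q.obj K ≅ (singleFunctor A a).obj (K.X a)) := by
  obtain ⟨M, ⟨e⟩⟩ := CochainComplex.exists_iso_single K a
  let e0 : K.X a ≅ M := (HomologicalComplex.eval _ _ a).mapIso e ≪≫ HomologicalComplex.singleObjXSelf (ComplexShape.up ℤ) _ M
  exact ⟨DerivedCategory.Q.mapIso e ≪≫ ((singleFunctorIsoCompQ A a).app M).symm ≪≫ (singleFunctor A a).mapIso e0.symm⟩

theorem eq_zero_of_iso {Z X Y : DerivedCategory A} (e : X ≅ Y) (h : ∀ ψ : Z ⟶ Y, ψ = 0) (φ : Z ⟶ X) : φ = 0 := by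
  rw [← cancel_mono e.hom, zero_comp]
  exact h _

/-- Maps into a bounded complex when only one term is seen. -/
theorem nonempty_equiv_of_terms (Z : A) (a : ℤ) : ∀ (m : ℕ) (K : CochainComplex A ℤ) [K.IsStrictlyGE a]
    [K.IsStrictlyLE (a + m)] (q₀ : ℤ) (_ : a ≤ q₀) (_ : q₀ ≤ a + m)
    (_ : ∀ q, a ≤ q → q ≤ a + m → q ≠ q₀ →
      ∀ ψ : (singleFunctor A 0).obj Z ⟶ (singleFunctor A q).obj (K.X q), ψ = 0)
    (_ : ∀ q, a ≤ q → q ≤ a + m →
      ∀ ψ : (singleFunctor A 0).obj Z ⟶ (singleFunctor A (q + 1)).obj (K.X q), ψ = 0)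
    (_ : ∀ q, a ≤ q → q ≤ a + m →
      ∀ ψ : (singleFunctor A 0).obj Z ⟶ (singleFunctor A (q - 1)).obj (K.X q), ψ = 0),
    Nonempty (((singleFunctor A 0).obj Z ⟶ DerivedCategory.Q.obj K) ≃+
      ((singleFunctor A 0).obj Z ⟶ (singleFunctor A q₀).obj (K.X q₀))) := by
  intro m
  induction m with
  | zero =>
    intro K _ _ q₀ h1 h2 _ _ _
    obtain rfl : q₀ = a := by simp at h2; omega
    haveI : K.IsStrictlyLE q₀ := by simpa using ‹K.IsStrictlyLE (q₀ + (0 : ℕ))›
    obtain ⟨e⟩ := nonempty_Q_iso_single K q₀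
    exact ⟨postEquiv _ e⟩
  | succ m ih =>
    intro K _ _ q₀ hq₀ hq₀' h hp hm
    let n : ℤ := a + (m + 1 : ℕ)
    have hS := DerCat.stupidSeq_shortExact K n
    have hT := DerivedCategory.triangleOfSES_distinguished hS
    haveI : (DerCat.sLE K (n - 1)).IsStrictlyGE a := by
      rw [CochainComplex.isStrictlyGE_iff]
      intro i hi
      by_cases hin : i ≤ n - 1
      · exact (K.isZero_of_isStrictlyGE a i hi).of_iso (DerCat.sLEXIso K hin)
      · exact DerCat.isZero_sLE K (by omega)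
    haveI : (DerCat.sLE K (n - 1)).IsStrictlyLE (a + m) := by
      rw [CochainComplex.isStrictlyLE_iff]
      intro i hi
      exact DerCat.isZero_sLE K (by simp only [n] at hi ⊢; push_cast; omega)
    haveI : (DerCat.sGE K n).IsStrictlyGE n := by
      rw [CochainComplex.isStrictlyGE_iff]
      exact fun i hi => DerCat.isZero_sGE K hi
    haveI : (DerCat.sGE K n).IsStrictlyLE n := by
      rw [CochainComplex.isStrictlyLE_iff]
      exact fun i hi => (K.isZero_of_isStrictlyLE (a + (m + 1 : ℕ)) i hi).of_iso (DerCat.sGEXIso K hi.le)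
    obtain ⟨e⟩ := nonempty_Q_iso_single (DerCat.sGE K n) n
    let e1 : DerivedCategory.Q.obj (DerCat.sGE K n) ≅ (singleFunctor A n).obj (K.X n) :=
      e ≪≫ (singleFunctor A n).mapIso (DerCat.sGEXIso K le_rfl)
    have hx : ∀ {q : ℤ} (hq : q ≤ n - 1) (r : ℤ)
        (_ : ∀ ψ : (singleFunctor A 0).obj Z ⟶ (singleFunctor A r).obj (K.X q), ψ = 0)
        (ψ : (singleFunctor A 0).obj Z ⟶ (singleFunctor A r).obj ((DerCat.sLE K (n - 1)).X q)), ψ = 0 :=
      fun {q} hq r h' ψ => eq_zero_of_iso ((singleFunctor A r).mapIso (DerCat.sLEXIso K hq)) h' ψ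
    by_cases hn : q₀ = n
    · subst hn
      obtain ⟨E⟩ := nonempty_equiv_mor₁ ((singleFunctor A 0).obj Z) (triangleOfSES hS) hT
        (fun φ => DeRhamVan15.eq_zero_of_terms Z a m (DerCat.sLE K (n - 1)) (fun q hq hq' ψ =>
          hx (by simp only [n]; push_cast; omega) q
            (h q hq (by push_cast; omega) (by simp only [n]; push_cast; omega)) ψ) φ)
        (fun φ => by
          haveI : ((DerCat.sLE K (n - 1))⟦(-1 : ℤ)⟧).IsStrictlyGE (a + 1) :=
            (DerCat.sLE K (n - 1)).isStrictlyGE_shift a (-1) (a + 1) (by omega)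
          haveI : ((DerCat.sLE K (n - 1))⟦(-1 : ℤ)⟧).IsStrictlyLE (a + 1 + m) :=
            (DerCat.sLE K (n - 1)).isStrictlyLE_shift (a + (m : ℤ)) (-1) (a + 1 + m) (by omega)
          refine eq_zero_of_iso (((DerivedCategory.Q (C := A)).commShiftIso (-1 : ℤ)).app (DerCat.sLE K (n - 1))).symm
            (fun χ => DeRhamVan15.eq_zero_of_terms Z (a + 1) m _ (fun q hq hq' ψ => ?_) χ) φ
          have h' : ∀ (p r : ℤ), r = p + 1 → a ≤ p → p ≤ a + m →
              ∀ ψ : (singleFunctor A 0).obj Z ⟶ (singleFunctor A r).obj ((DerCat.sLE K (n - 1)).X p), ψ = 0 := by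
            intro p r hr ha hb
            subst hr
            exact fun ψ => hx (by simp only [n]; push_cast; omega) _ (hp p ha (by push_cast; omega)) ψ
          exact h' (q + -1) q (by omega) (by omega) (by omega) ψ)
      exact ⟨E.trans (postEquiv _ e1)⟩
    · have hn' : q₀ ≤ n - 1 := by simp only [n] at hn ⊢; push_cast at hq₀' hn ⊢; omega
      obtain ⟨E⟩ := nonempty_equiv_mor₂ ((singleFunctor A 0).obj Z) (triangleOfSES hS) hT
        (fun φ => eq_zero_of_iso e1 (h n (by simp only [n]; omega) le_rfl (Ne.symm hn)) φ)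
        (fun φ => eq_zero_of_iso ((shiftFunctor (DerivedCategory A) (1 : ℤ)).mapIso e1 ≪≫
          ((singleFunctors A).shiftIso (1 : ℤ) (n - 1) n (by omega)).app (K.X n))
          (hm n (by simp only [n]; omega) le_rfl) φ)
      obtain ⟨E'⟩ := ih (DerCat.sLE K (n - 1)) q₀ hq₀ (by simp only [n] at hn'; push_cast at hn'; omega)
        (fun q hq hq' hne ψ => hx (by simp only [n]; push_cast; omega) q (h q hq (by push_cast; omega) hne) ψ)
        (fun q hq hq' ψ => hx (by simp only [n]; push_cast; omega) _ (hp q hq (by push_cast; omega)) ψ)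
        (fun q hq hq' ψ => hx (by simp only [n]; push_cast; omega) _ (hm q hq (by push_cast; omega)) ψ)
      exact ⟨E.trans (E'.trans (postEquiv _ ((singleFunctor A q₀).mapIso (DerCat.sLEXIso K hn'))))⟩

end GrothLib.DeRhamPn28
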