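import Groth.Agent.Lib.DeRhamPn28.Main
import Groth.Agent.Lib.DeRhamVan15.FiniteProper

/-!
# De Rham cohomology of projective space with its module structure
-/

set_option autoImplicit false
set_option backward.isDefEq.respectTransparency false
set_option maxHeartbeats 1600000
set_option linter.all false

universe w v u u'

open CategoryTheory CategoryTheory.Limits AlgebraicGeometry Opposite TopologicalSpace DerivedCategory
open GrothLib.DeRhamVan15 (HM endMap actD actX)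

noncomputable section

namespace GrothLib.DeRhamPn28

section Complex

variable {A : Type u} [Category.{v} A] [Abelian A] [HasDerivedCategory.{w} A]

theorem bijective_sGEι {Z : DerivedCategory A} (K : CochainComplex A ℤ) (n j : ℤ)
    (h : ∀ φ : Z ⟶ (DerivedCategory.Q.obj (DerCat.sLE K (n - 1)))⟦j⟧, φ = 0)
    (h' : ∀ φ : Z ⟶ (DerivedCategory.Q.obj (DerCat.sLE K (n - 1)))⟦j - 1⟧, φ = 0) :
    Function.Bijective fun φ : Z ⟶ (DerivedCategory.Q.obj (DerCat.sGE K n))⟦j⟧ =>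
      φ ≫ (shiftFunctor (DerivedCategory A) j).map (DerivedCategory.Q.map (DerCat.sGEι K n)) := by
  have hT := Pretriangulated.Triangle.shift_distinguished _
    (DerivedCategory.triangleOfSES_distinguished (DerCat.stupidSeq_shortExact K n)) j
  let f := (shiftFunctor (DerivedCategory A) j).map (DerivedCategory.Q.map (DerCat.sGEι K n))
  refine ⟨fun a b hab => ?_, fun ψ => ?_⟩
  · rw [← sub_eq_zero]
    have h0 : (a - b) ≫ f = 0 := by rw [Preadditive.sub_comp, sub_eq_zero]; exact hab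
    obtain ⟨χ, hχ⟩ := Pretriangulated.Triangle.coyoneda_exact₂ _ (Pretriangulated.inv_rot_of_distTriang _ hT) (a - b) (by
      show (a - b) ≫ (j.negOnePow • f) = 0
      rw [Linear.comp_units_smul, h0, smul_zero])
    rw [hχ, show χ = 0 from eq_zero_of_iso
      ((shiftFunctorAdd' (DerivedCategory A) j (-1) (j - 1) (by omega)).symm.app
        (DerivedCategory.Q.obj (DerCat.sLE K (n - 1)))) h' χ]
    exact zero_comp
  · obtain ⟨χ, hχ⟩ := Pretriangulated.Triangle.coyoneda_exact₂ _ hT ψ (h _)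
    refine ⟨j.negOnePow • χ, ?_⟩
    show (j.negOnePow • χ) ≫ f = ψ
    rw [Linear.units_smul_comp, ← Linear.comp_units_smul]
    exact hχ.symm

theorem bijective_sLEπ {Z : DerivedCategory A} (K : CochainComplex A ℤ) (n j : ℤ)
    (h : ∀ φ : Z ⟶ (DerivedCategory.Q.obj (DerCat.sGE K n))⟦j⟧, φ = 0)
    (h' : ∀ φ : Z ⟶ (DerivedCategory.Q.obj (DerCat.sGE K n))⟦j + 1⟧, φ = 0) :
    Function.Bijective fun φ : Z ⟶ (DerivedCategory.Q.obj K)⟦j⟧ =>
      φ ≫ (shiftFunctor (DerivedCategory A) j).map (DerivedCategory.Q.map (DerCat.sLEπ K (n - 1))) := by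
  have hT := Pretriangulated.Triangle.shift_distinguished _
    (DerivedCategory.triangleOfSES_distinguished (DerCat.stupidSeq_shortExact K n)) j
  let f := (shiftFunctor (DerivedCategory A) j).map (DerivedCategory.Q.map (DerCat.sLEπ K (n - 1)))
  refine ⟨fun a b hab => ?_, fun ψ => ?_⟩
  · rw [← sub_eq_zero]
    have h0 : (a - b) ≫ f = 0 := by rw [Preadditive.sub_comp, sub_eq_zero]; exact hab
    obtain ⟨χ, hχ⟩ := Pretriangulated.Triangle.coyoneda_exact₂ _ hT (a - b) (by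
      show (a - b) ≫ (j.negOnePow • f) = 0
      rw [Linear.comp_units_smul, h0, smul_zero])
    rw [hχ, show χ = 0 from h χ]
    exact zero_comp
  · obtain ⟨χ, hχ⟩ := Pretriangulated.Triangle.coyoneda_exact₃ _ hT ψ (eq_zero_of_iso
      ((shiftFunctorAdd' (DerivedCategory A) j 1 (j + 1) rfl).symm.app
        (DerivedCategory.Q.obj (DerCat.sGE K n))) h' _)
    refine ⟨j.negOnePow • χ, ?_⟩
    show (j.negOnePow • χ) ≫ f = ψ
    rw [Linear.units_smul_comp, ← Linear.comp_units_smul]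
    exact hχ.symm

theorem eq_zero_of_isZero {Z : DerivedCategory A} {M : A} (hM : IsZero M) (r : ℤ)
    (ψ : Z ⟶ (singleFunctor A r).obj M) : ψ = 0 :=
  ((singleFunctor A r).map_isZero hM).eq_of_tgt _ _

variable {R : Type u'} [Ring R]

theorem nonempty_linearEquiv_of_post {C : Type*} [Category C] [Preadditive C] {Z E E' : C} {ρ : R →+* End E}
    {ρ' : R →+* End E'} (f : E ⟶ E') (hf : ∀ a, (ρ a : E ⟶ E) ≫ f = f ≫ (ρ' a : E' ⟶ E'))
    (hb : Function.Bijective fun φ : Z ⟶ E => φ ≫ f) : Nonempty (HM Z ρ ≃ₗ[R] HM Z ρ') :=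
  ⟨LinearEquiv.ofBijective (HM.map f hf) hb⟩

/-- A complex seen only in its diagonal term. -/
theorem nonempty_linearEquiv_of_diag (T : A) (K : CochainComplex A ℤ) (N : ℕ) [K.IsStrictlyGE 0]
    [K.IsStrictlyLE (N : ℤ)] (ρ : R →+* End K) (i : ℕ) (hi : i ≤ N)
    (hdiag : ∀ (p r : ℤ), 0 ≤ p → r ≠ -p → ∀ ψ : (singleFunctor A 0).obj T ⟶ (singleFunctor A r).obj (K.X p), ψ = 0) :
    Nonempty (HM ((singleFunctor A 0).obj T) (actD K ρ (2 * (i : ℤ))) ≃ₗ[R]
      HM ((singleFunctor A 0).obj T) ((endMap (singleFunctor A ((i : ℤ) - 2 * (i : ℤ))) (K.X (i : ℤ))).comp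
        (actX K ρ (i : ℤ)))) := by
  let G := DerCat.sGE K (i : ℤ)
  let ρG : R →+* End G :=
    (endMap ((ComplexShape.embeddingUpIntGE (i : ℤ)).stupidTruncFunctor A) K).comp ρ
  let L := DerCat.sLE G ((i : ℤ) + 1 - 1)
  let ρL : R →+* End L :=
    (endMap ((ComplexShape.embeddingUpIntLE ((i : ℤ) + 1 - 1)).stupidTruncFunctor A) G).comp ρG
  have hG : ∀ (r : R) (q : ℤ) (hq : (i : ℤ) ≤ q), (ρG r : G ⟶ _).f q ≫ (DerCat.sGEXIso K hq).hom =
      (DerCat.sGEXIso K hq).hom ≫ (ρ r : K ⟶ K).f q := fun r q hq =>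
    HomologicalComplex.stupidTruncMap_stupidTruncXIso_hom (ρ r) _ _
  have hL : ∀ (r : R) (q : ℤ) (hq : q ≤ (i : ℤ) + 1 - 1), (ρL r : L ⟶ _).f q ≫ (DerCat.sLEXIso G hq).hom =
      (DerCat.sLEXIso G hq).hom ≫ (ρG r : G ⟶ G).f q := fun r q hq =>
    HomologicalComplex.stupidTruncMap_stupidTruncXIso_hom (ρG r) _ _
  have cι : ∀ r, (ρG r : G ⟶ _) ≫ DerCat.sGEι K (i : ℤ) = DerCat.sGEι K (i : ℤ) ≫ (ρ r : K ⟶ K) := by
    intro r
    ext q
    by_cases hq : (i : ℤ) ≤ q
    · simp only [HomologicalComplex.comp_f, DerCat.sGEι, dif_pos hq]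
      exact hG r q hq
    · exact (DerCat.isZero_sGE K (by omega)).eq_of_src _ _
  have cπ : ∀ r, (ρG r : G ⟶ G) ≫ DerCat.sLEπ G ((i : ℤ) + 1 - 1) =
      DerCat.sLEπ G ((i : ℤ) + 1 - 1) ≫ (ρL r : L ⟶ _) := by
    intro r
    ext q
    by_cases hq : q ≤ (i : ℤ) + 1 - 1
    · simp only [HomologicalComplex.comp_f, DerCat.sLEπ, dif_pos hq]
      rw [Iso.comp_inv_eq, Category.assoc, hL r q hq, Iso.inv_hom_id_assoc]
    · exact (DerCat.isZero_sLE G (by omega)).eq_of_tgt _ _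
  -- vanishing in the pieces
  haveI : (DerCat.sLE K ((i : ℤ) - 1)).IsStrictlyGE 0 := by
    rw [CochainComplex.isStrictlyGE_iff]
    intro q hq
    exact (K.isZero_of_isStrictlyGE 0 q hq).of_iso (DerCat.sLEXIso K (by omega))
  haveI : (DerCat.sLE K ((i : ℤ) - 1)).IsStrictlyLE (N : ℤ) := by
    rw [CochainComplex.isStrictlyLE_iff]
    exact fun q hq => DerCat.isZero_sLE K (by omega)
  haveI : G.IsStrictlyGE (i : ℤ) := by
    rw [CochainComplex.isStrictlyGE_iff]
    exact fun q hq => DerCat.isZero_sGE K hq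
  haveI : G.IsStrictlyGE 0 := by
    rw [CochainComplex.isStrictlyGE_iff]
    exact fun q hq => DerCat.isZero_sGE K (by omega)
  haveI : G.IsStrictlyLE (N : ℤ) := by
    rw [CochainComplex.isStrictlyLE_iff]
    exact fun q hq => (K.isZero_of_isStrictlyLE (N : ℤ) q hq).of_iso (DerCat.sGEXIso K (by omega))
  haveI : (DerCat.sGE G ((i : ℤ) + 1)).IsStrictlyGE 0 := by
    rw [CochainComplex.isStrictlyGE_iff]
    exact fun q hq => DerCat.isZero_sGE G (by omega)
  haveI : (DerCat.sGE G ((i : ℤ) + 1)).IsStrictlyLE (N : ℤ) := by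
    rw [CochainComplex.isStrictlyLE_iff]
    intro q hq
    by_cases hqi : (i : ℤ) + 1 ≤ q
    · exact (G.isZero_of_isStrictlyLE (N : ℤ) q hq).of_iso (DerCat.sGEXIso G hqi)
    · exact DerCat.isZero_sGE G (by omega)
  have hlow : ∀ j : ℤ, 2 * (i : ℤ) - 1 ≤ j →
      ∀ φ : (singleFunctor A 0).obj T ⟶ (DerivedCategory.Q.obj (DerCat.sLE K ((i : ℤ) - 1)))⟦j⟧, φ = 0 :=
    fun j hj => DeRhamVan15.eq_zero_shift_of_terms T (DerCat.sLE K ((i : ℤ) - 1)) N j fun p hp _ ψ => by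
      by_cases hpi : p ≤ (i : ℤ) - 1
      · exact eq_zero_of_iso ((singleFunctor A (p - j)).mapIso (DerCat.sLEXIso K hpi)) (hdiag p _ hp (by omega)) ψ
      · exact eq_zero_of_isZero (DerCat.isZero_sLE K (by omega)) _ ψ
  have hhigh : ∀ j : ℤ, j ≤ 2 * (i : ℤ) + 1 →
      ∀ φ : (singleFunctor A 0).obj T ⟶ (DerivedCategory.Q.obj (DerCat.sGE G ((i : ℤ) + 1)))⟦j⟧, φ = 0 :=
    fun j hj => DeRhamVan15.eq_zero_shift_of_terms T (DerCat.sGE G ((i : ℤ) + 1)) N j fun p hp _ ψ => by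
      by_cases hpi : (i : ℤ) + 1 ≤ p
      · exact eq_zero_of_iso ((singleFunctor A (p - j)).mapIso
          (DerCat.sGEXIso G hpi ≪≫ DerCat.sGEXIso K (by omega : (i : ℤ) ≤ p))) (hdiag p _ hp (by omega)) ψ
      · exact eq_zero_of_isZero (DerCat.isZero_sGE G (by omega)) _ ψ
  obtain ⟨E1⟩ := nonempty_linearEquiv_of_post (R := R) (Z := (singleFunctor A 0).obj T)
    (ρ := actD G ρG (2 * (i : ℤ))) (ρ' := actD K ρ (2 * (i : ℤ)))
    ((shiftFunctor (DerivedCategory A) (2 * (i : ℤ))).map (DerivedCategory.Q.map (DerCat.sGEι K (i : ℤ))))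
    (fun r => by
      show (shiftFunctor (DerivedCategory A) _).map (DerivedCategory.Q.map (ρG r)) ≫ _ =
        _ ≫ (shiftFunctor (DerivedCategory A) _).map (DerivedCategory.Q.map (ρ r))
      rw [← Functor.map_comp, ← Functor.map_comp, cι, Functor.map_comp, Functor.map_comp])
    (bijective_sGEι K (i : ℤ) _ (hlow _ (by omega)) (hlow _ (by omega)))
  obtain ⟨E2⟩ := nonempty_linearEquiv_of_post (R := R) (Z := (singleFunctor A 0).obj T)
    (ρ := actD G ρG (2 * (i : ℤ))) (ρ' := actD L ρL (2 * (i : ℤ)))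
    ((shiftFunctor (DerivedCategory A) (2 * (i : ℤ))).map (DerivedCategory.Q.map (DerCat.sLEπ G ((i : ℤ) + 1 - 1))))
    (fun r => by
      show (shiftFunctor (DerivedCategory A) _).map (DerivedCategory.Q.map (ρG r)) ≫ _ =
        _ ≫ (shiftFunctor (DerivedCategory A) _).map (DerivedCategory.Q.map (ρL r))
      rw [← Functor.map_comp, ← Functor.map_comp, cπ, Functor.map_comp, Functor.map_comp])
    (bijective_sLEπ G ((i : ℤ) + 1) _ (hhigh _ (by omega)) (hhigh _ (by omega)))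
  -- the single complex
  haveI : L.IsStrictlyGE (i : ℤ) := by
    rw [CochainComplex.isStrictlyGE_iff]
    exact fun q hq => (G.isZero_of_isStrictlyGE (i : ℤ) q hq).of_iso (DerCat.sLEXIso G (by omega))
  haveI : L.IsStrictlyLE (i : ℤ) := by
    rw [CochainComplex.isStrictlyLE_iff]
    exact fun q hq => DerCat.isZero_sLE G (by omega)
  obtain ⟨M, ⟨e⟩⟩ := CochainComplex.exists_iso_single L (i : ℤ)
  let e₀ : L.X (i : ℤ) ≅ M :=
    (HomologicalComplex.eval _ _ (i : ℤ)).mapIso e ≪≫ HomologicalComplex.singleObjXSelf (ComplexShape.up ℤ) _ M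
  let eL := e ≪≫ (HomologicalComplex.single A (ComplexShape.up ℤ) (i : ℤ)).mapIso e₀.symm
  have he : ∀ a, (ρL a : L ⟶ L) ≫ eL.hom =
      eL.hom ≫ (HomologicalComplex.single A (ComplexShape.up ℤ) (i : ℤ)).map (actX L ρL (i : ℤ) a) := fun a => by
    apply HomologicalComplex.to_single_hom_ext
    simp only [eL, Iso.trans_hom, Functor.mapIso_hom, Iso.symm_hom, HomologicalComplex.comp_f,
      HomologicalComplex.single_map_f_self, Category.assoc, Iso.inv_hom_id, Category.comp_id]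
    show (ρL a : L ⟶ L).f (i : ℤ) ≫ _ = _
    simp only [e₀, Iso.trans_inv, Functor.mapIso_inv, HomologicalComplex.eval_map, Category.assoc,
      Iso.hom_inv_id_assoc, Iso.inv_hom_id_assoc, ← HomologicalComplex.comp_f_assoc, Iso.hom_inv_id,
      HomologicalComplex.id_f, Category.comp_id, Category.id_comp]
    rfl
  let j : ℤ := (i : ℤ) - 2 * (i : ℤ)
  let u : (shiftFunctor (DerivedCategory A) (2 * (i : ℤ))).obj (DerivedCategory.Q.obj L) ≅
      (singleFunctor A j).obj (L.X (i : ℤ)) :=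
    (shiftFunctor (DerivedCategory A) (2 * (i : ℤ))).mapIso
        (DerivedCategory.Q.mapIso eL ≪≫ ((singleFunctorIsoCompQ A (i : ℤ)).app (L.X (i : ℤ))).symm) ≪≫
      ((singleFunctors A).shiftIso (2 * (i : ℤ)) j (i : ℤ) (by omega)).app (L.X (i : ℤ))
  have hu : ∀ a, (actD L ρL (2 * (i : ℤ)) a : _ ⟶ _) ≫ u.hom =
      u.hom ≫ (singleFunctor A j).map (actX L ρL (i : ℤ) a) := fun a => by
    show (shiftFunctor (DerivedCategory A) _).map (DerivedCategory.Q.map (ρL a)) ≫ u.hom =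
      u.hom ≫ (singleFunctor A j).map (actX L ρL (i : ℤ) a)
    simp only [u, Iso.trans_hom, Functor.mapIso_hom, Iso.symm_hom, Iso.app_hom, Iso.app_inv, Category.assoc,
      Functor.map_comp]
    rw [← Functor.map_comp_assoc, ← Functor.map_comp, he, Functor.map_comp, Functor.map_comp_assoc]
    congr 1
    rw [← Functor.map_comp_assoc]
    erw [(singleFunctorIsoCompQ A (i : ℤ)).inv.naturality (actX L ρL (i : ℤ) a)]
    rw [Functor.map_comp_assoc]
    congr 1
    exact (((singleFunctors A).shiftIso (2 * (i : ℤ)) j (i : ℤ) (by omega)).hom.naturality (actX L ρL (i : ℤ) a))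
  obtain ⟨E3⟩ := nonempty_linearEquiv_of_post (R := R) (Z := (singleFunctor A 0).obj T)
    (ρ := actD L ρL (2 * (i : ℤ))) (ρ' := (endMap (singleFunctor A j) (L.X (i : ℤ))).comp (actX L ρL (i : ℤ)))
    u.hom hu (postEquiv ((singleFunctor A 0).obj T) u).bijective
  let w := DerCat.sLEXIso G (by omega : (i : ℤ) ≤ (i : ℤ) + 1 - 1) ≪≫ DerCat.sGEXIso K (le_refl (i : ℤ))
  obtain ⟨E4⟩ := nonempty_linearEquiv_of_post (R := R) (Z := (singleFunctor A 0).obj T)
    (ρ := (endMap (singleFunctor A j) (L.X (i : ℤ))).comp (actX L ρL (i : ℤ)))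
    (ρ' := (endMap (singleFunctor A j) (K.X (i : ℤ))).comp (actX K ρ (i : ℤ)))
    ((singleFunctor A j).mapIso w).hom (fun r => by
      show (singleFunctor A j).map ((ρL r : L ⟶ L).f (i : ℤ)) ≫ (singleFunctor A j).map w.hom =
        (singleFunctor A j).map w.hom ≫ (singleFunctor A j).map ((ρ r : K ⟶ K).f (i : ℤ))
      rw [← Functor.map_comp, ← Functor.map_comp]
      congr 1
      simp only [w, Iso.trans_hom, ← Category.assoc, hL r (i : ℤ) (by omega)]
      simp only [Category.assoc, hG r (i : ℤ) le_rfl])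
    (postEquiv ((singleFunctor A 0).obj T) ((singleFunctor A j).mapIso w)).bijective
  exact ⟨E1.symm ≪≫ₗ E2 ≪≫ₗ E3 ≪≫ₗ E4⟩

end Complex

section Scheme

open DeRhamVan15 (constZ)

theorem nonempty_HM_single_equiv {R : Type u} [CommRing R] {X : Scheme.{u}} (c : R →+* Coh.Γtop X)
    [HasDerivedCategory.{u} (Sheaf (Opens.grothendieckTopology ↥X) AddCommGrpCat.{u})] (M : X.Modules)
    (N : Sheaf (Opens.grothendieckTopology ↥X) AddCommGrpCat.{u}) (e : N ≅ Coh.toAb M) (σ : R →+* End N)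
    (hσ : ∀ a, (σ a : N ⟶ N) ≫ e.hom = e.hom ≫ Coh.smulAb M (c a)) (k : ℕ) (j : ℤ) (hj : j = -(k : ℤ)) :
    letI := Module.compHom (Coh.HH X M k) c
    Nonempty (HM ((singleFunctor _ 0).obj (constZ X)) ((endMap (singleFunctor _ j) N).comp σ) ≃ₗ[R] Coh.HH X M k) := by
  subst hj
  letI := Module.compHom (Coh.HH X M k) c
  let v : (singleFunctor _ (-(k : ℤ))).obj N ≅ ((singleFunctor _ 0).obj (Coh.toAb M))⟦(k : ℤ)⟧ :=
    (singleFunctor _ (-(k : ℤ))).mapIso e ≪≫
      (((singleFunctors (Sheaf (Opens.grothendieckTopology ↥X) AddCommGrpCat.{u})).shiftIso (k : ℤ) (-(k : ℤ)) 0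
        (by omega)).app (Coh.toAb M)).symm
  have hv : ∀ a, (singleFunctor _ (-(k : ℤ))).map (σ a) ≫ v.hom =
      v.hom ≫ ((singleFunctor _ 0).map (Coh.smulAb M (c a)))⟦(k : ℤ)⟧' := by
    intro a
    simp only [v, Iso.trans_hom, Functor.mapIso_hom, Iso.symm_hom, Iso.app_inv, Category.assoc]
    rw [← Functor.map_comp_assoc, hσ, Functor.map_comp_assoc]
    congr 1
    exact ((singleFunctors (Sheaf (Opens.grothendieckTopology ↥X) AddCommGrpCat.{u})).shiftIso (k : ℤ) (-(k : ℤ)) 0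
        (by omega)).inv.naturality (Coh.smulAb M (c a))
  let L : HM ((singleFunctor _ 0).obj (constZ X)) ((endMap (singleFunctor _ (-(k : ℤ))) N).comp σ) →ₗ[R]
      Coh.HH X M k :=
    { toFun := fun x => Abelian.Ext.homEquiv.symm (HM.hom x ≫ v.hom)
      map_add' := fun x y => Abelian.Ext.homEquiv.injective (by
        rw [Equiv.apply_symm_apply]
        refine Eq.trans ?_ (Abelian.Ext.add_hom _ _).symm
        simp only [Abelian.Ext.hom, Equiv.apply_symm_apply]
        exact Preadditive.add_comp _ _ _ _ _ _)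
      map_smul' := fun a x => Abelian.Ext.homEquiv.injective (by
        rw [Equiv.apply_symm_apply]
        show (HM.hom x ≫ (singleFunctor _ (-(k : ℤ))).map (σ a)) ≫ v.hom =
          ((Abelian.Ext.homEquiv.symm (HM.hom x ≫ v.hom)).comp (Abelian.Ext.mk₀ (Coh.smulAb M (c a))) (add_zero k)).hom
        rw [Abelian.Ext.comp_hom, Abelian.Ext.mk₀_hom, ShiftedHom.comp_mk₀, Category.assoc, hv a]
        simp only [Abelian.Ext.hom, Equiv.apply_symm_apply, Category.assoc]) }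
  exact ⟨LinearEquiv.ofBijective L ⟨fun x y h =>
    HM.hom.injective ((cancel_mono v.hom).1 (Abelian.Ext.homEquiv.symm.injective h)), fun y =>
    ⟨HM.hom.symm (Abelian.Ext.homEquiv y ≫ v.inv), by
      show Abelian.Ext.homEquiv.symm (_ ≫ v.hom) = y
      rw [AddEquiv.apply_symm_apply, Category.assoc, v.inv_hom_id, Category.comp_id, Equiv.symm_apply_apply]⟩⟩⟩

variable (A : Type u) [CommRing A] (n : ℕ) [QuasiSeparated (CohB1.ProjSpace.toSpec n A)]
  (D : DeRhamSh.OmegaCx (CohB1.ProjSpace.toSpec n A))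
  [HasDerivedCategory.{u} (Sheaf (Opens.grothendieckTopology ↥(CohB1.ProjSpace n A)) AddCommGrpCat.{u})]

/-- De Rham cohomology in even degrees, linearly. -/
theorem nonempty_HdR_linearEquiv
    (h : KLinDR.TermwiseLinear (Coh.toGlobal (CohB1.ProjSpace.toSpec n A)) D.K D.term D.iso) (i : ℕ) (hi : i ≤ n) :
    Nonempty (KLinDR.HdR (Coh.toGlobal (CohB1.ProjSpace.toSpec n A)) D h (2 * (i : ℤ)) ≃ₗ[A] A) := by
  haveI := isStrictlyGE_KZ A n D
  haveI := isStrictlyLE_KZ A n D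
  let T := CohCx.freeSheaf (Opens.grothendieckTopology ↥(CohB1.ProjSpace n A)) (⊤ : (CohB1.ProjSpace n A).Opens)
  let e : T ≅ constZ (CohB1.ProjSpace n A) := Cohom.freeTopIso
  have hd : ∀ (p r : ℤ), 0 ≤ p → r ≠ -p → ∀ ψ : (singleFunctor _ 0).obj (constZ (CohB1.ProjSpace n A)) ⟶
      (singleFunctor _ r).obj (D.KZ.X p), ψ = 0 := by
    intro p r hp hr ψ
    obtain ⟨p, rfl⟩ := Int.eq_ofNat_of_zero_le hp
    rw [← cancel_epi ((singleFunctor _ 0).map e.hom), comp_zero]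
    exact eq_zero_term A n D p r hr _
  obtain ⟨E⟩ := nonempty_linearEquiv_of_diag (constZ (CohB1.ProjSpace n A)) D.KZ n (KLinDR.scalar h) i hi hd
  obtain ⟨F⟩ := nonempty_HM_single_equiv (Coh.toGlobal (CohB1.ProjSpace.toSpec n A)) (D.term i)
    (D.KZ.X (i : ℤ)) (D.K.extendXIso ComplexShape.embeddingUpNat (ComplexShape.embeddingUpNat_f i) ≪≫ D.iso i)
    (actX D.KZ (KLinDR.scalar h) (i : ℤ)) (fun a => by
      show (KLinDR.scalar h a : D.KZ ⟶ D.KZ).f (i : ℤ) ≫ _ = _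
      rw [KLinDR.scalar_f, KLinDR.scalarEnd]
      simp only [Iso.trans_hom, Category.assoc, Iso.inv_hom_id_assoc, Iso.inv_hom_id, Category.comp_id])
    i ((i : ℤ) - 2 * (i : ℤ)) (by ring)
  let P : HM ((singleFunctor _ 0).obj (constZ (CohB1.ProjSpace n A))) (actD D.KZ (KLinDR.scalar h) (2 * (i : ℤ))) →ₗ[A]
      KLinDR.HdR (Coh.toGlobal (CohB1.ProjSpace.toSpec n A)) D h (2 * (i : ℤ)) :=
    { toFun := fun x => KLinDR.HTρ.toHT.symm ((singleFunctor _ 0).map e.hom ≫ HM.hom x)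
      map_add' := fun x y => Preadditive.comp_add _ _ _ _ _ _
      map_smul' := fun a x => (Category.assoc _ _ _).symm }
  have hP : Function.Bijective P := by
    refine ⟨fun x y hxy => ?_, fun y => ?_⟩
    · exact HM.hom.injective ((cancel_epi ((singleFunctor _ 0).map e.hom)).1 (KLinDR.HTρ.toHT.symm.injective hxy))
    · refine ⟨HM.hom.symm ((singleFunctor _ 0).map e.inv ≫ KLinDR.HTρ.toHT y), ?_⟩
      show (singleFunctor _ 0).map e.hom ≫ (singleFunctor _ 0).map e.inv ≫ KLinDR.HTρ.toHT y = KLinDR.HTρ.toHT y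
      rw [← Functor.map_comp_assoc, Iso.hom_inv_id, CategoryTheory.Functor.map_id, Category.id_comp]
  obtain ⟨a⟩ := nonempty_term_iso A n D i
  obtain ⟨c⟩ := OmegaPn27.nonempty_untwisted n A i hi
  exact ⟨(LinearEquiv.ofBijective P hP).symm ≪≫ₗ E ≪≫ₗ F ≪≫ₗ Euler.hhEquiv (A := A) a i ≪≫ₗ c⟩

end Scheme

end GrothLib.DeRhamPn28
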