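import Groth.Agent.Lib.DeRhamPn28.Abstract
import Groth.Agent.Lib.OmegaPn27.Bott

/-!
# De Rham cohomology of projective space
-/

set_option autoImplicit false
set_option backward.isDefEq.respectTransparency false
set_option maxHeartbeats 800000
set_option linter.all false

universe u

open CategoryTheory CategoryTheory.Limits AlgebraicGeometry Opposite TopologicalSpace DerivedCategory

noncomputable section

namespace GrothLib.DeRhamPn28

variable (A : Type u) [CommRing A] (n : ℕ) [QuasiSeparated (CohB1.ProjSpace.toSpec n A)]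
  (D : DeRhamSh.OmegaCx (CohB1.ProjSpace.toSpec n A))

theorem nonempty_term_iso (p : ℕ) : Nonempty (D.term p ≅ OmegaPn27.Wt n A p 0) := by
  obtain ⟨a⟩ := ExtPowX.nonempty_iso (D.isExtPow p)
    (ExtPowX.isExtPow_wedge (OmegaPn27.isFinLocFree_omegaP n A) p) (Iso.refl _)
  obtain ⟨b⟩ := OmegaPn27.nonempty_Wt_zero_right n A p
  exact ⟨a ≪≫ b⟩

theorem isZero_K (p : ℕ) (hp : n < p) : IsZero (D.K.X p) := by
  obtain ⟨a⟩ := nonempty_term_iso A n D p
  have hz : IsZero (D.term p) := IsZero.of_iso (OmegaPn27.isZero_Wt n A hp 0) a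
  refine IsZero.of_iso ?_ (D.iso p)
  exact (SheafOfModules.toSheaf (CohB1.ProjSpace n A).ringCatSheaf).map_isZero hz

/-- The term of the integral complex. -/
def termIso (p : ℕ) : D.KZ.X (p : ℤ) ≅ Coh.toAb (D.term p) :=
  D.K.extendXIso ComplexShape.embeddingUpNat (by simp) ≪≫ D.iso p

theorem isStrictlyGE_KZ : D.KZ.IsStrictlyGE 0 := by
  rw [CochainComplex.isStrictlyGE_iff]
  intro q hq
  exact D.K.isZero_extend_X _ _ fun j hj => by
    simp only [ComplexShape.embeddingUpNat_f] at hj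
    omega

theorem isStrictlyLE_KZ : D.KZ.IsStrictlyLE (n : ℤ) := by
  rw [CochainComplex.isStrictlyLE_iff]
  intro q hq
  exact (isZero_K A n D q.toNat (by omega)).of_iso
    (D.K.extendXIso ComplexShape.embeddingUpNat (by simp; omega))

variable [HasDerivedCategory.{u} (Sheaf (Opens.grothendieckTopology ↥(CohB1.ProjSpace n A)) AddCommGrpCat.{u})]

theorem eq_zero_term (p : ℕ) (r : ℤ) (hr : r ≠ -(p : ℤ))
    (ψ : (singleFunctor _ 0).obj (CohCx.freeSheaf (Opens.grothendieckTopology ↥(CohB1.ProjSpace n A))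
        (⊤ : (CohB1.ProjSpace n A).Opens)) ⟶ (singleFunctor _ r).obj (D.KZ.X (p : ℤ))) : ψ = 0 := by
  rcases lt_or_ge 0 r with h | h
  · exact TStructure.t.zero_of_isLE_of_isGE ψ 0 r h inferInstance inferInstance
  · rw [← cancel_mono ((singleFunctor _ r).map (termIso A n D p).hom), zero_comp]
    obtain ⟨a⟩ := nonempty_term_iso A n D p
    haveI := OmegaPn27.subsingleton_untwisted n A p (-r).toNat (by omega)
    haveI : Subsingleton (Coh.HH (CohB1.ProjSpace n A) (D.term p) (-r).toNat) :=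
      OmegaPn27.subsingleton_iso n A a ‹_›
    exact SiteDer.eq_zero_of_subsingleton_ext.{u} _ _ 0 _ (-r).toNat (by omega)
      ((Cohom.HEquivTop (Coh.toAb (D.term p)) (-r).toNat).symm.toEquiv.subsingleton) _

/-- Odd and out of range degrees vanish. -/
theorem subsingleton_HdR (m : ℤ) (hm : ∀ i : ℕ, i ≤ n → m ≠ 2 * (i : ℤ)) :
    Subsingleton (DeRhamSh.HdR D m) := by
  haveI := isStrictlyGE_KZ A n D
  haveI := isStrictlyLE_KZ A n D
  refine subsingleton_of_forall_eq 0 fun φ =>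
    DeRhamVan15.eq_zero_shift_of_terms _ D.KZ n m (fun p hp hpn ψ => ?_) φ
  obtain ⟨p, rfl⟩ := Int.eq_ofNat_of_zero_le hp
  exact eq_zero_term A n D p _ (by have := hm p (by omega); omega) ψ

/-- A single term as cohomology. -/
theorem nonempty_single_equiv (p : ℕ) :
    Nonempty (((singleFunctor _ 0).obj (CohCx.freeSheaf (Opens.grothendieckTopology ↥(CohB1.ProjSpace n A))
        (⊤ : (CohB1.ProjSpace n A).Opens)) ⟶ (singleFunctor _ (-(p : ℤ))).obj (D.KZ.X (p : ℤ))) ≃+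
      Coh.HH (CohB1.ProjSpace n A) (D.term p) p) := by
  let Z := CohCx.freeSheaf (Opens.grothendieckTopology ↥(CohB1.ProjSpace n A)) (⊤ : (CohB1.ProjSpace n A).Opens)
  let N := Coh.toAb (D.term p)
  let v : (singleFunctor _ (-(p : ℤ))).obj (D.KZ.X (p : ℤ)) ≅ ((singleFunctor _ 0).obj N)⟦(p : ℤ)⟧ :=
    (singleFunctor _ (-(p : ℤ))).mapIso (termIso A n D p) ≪≫
      (((singleFunctors _).shiftIso (p : ℤ) (-(p : ℤ)) 0 (by omega)).app N).symm
  let H : Abelian.Ext.{u} Z N p ≃+ ((singleFunctor _ 0).obj Z ⟶ ((singleFunctor _ 0).obj N)⟦(p : ℤ)⟧) :=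
    { Abelian.Ext.homEquiv with map_add' := fun α β => Abelian.Ext.add_hom α β }
  exact ⟨(postEquiv _ v).trans (H.symm.trans (Cohom.HEquivTop N p).symm)⟩

/-- The even degrees. -/
theorem nonempty_HdR_equiv (i : ℕ) (hi : i ≤ n) : Nonempty (DeRhamSh.HdR D (2 * (i : ℤ)) ≃+ A) := by
  haveI := isStrictlyGE_KZ A n D
  haveI := isStrictlyLE_KZ A n D
  haveI : (D.KZ⟦(2 * (i : ℤ))⟧).IsStrictlyGE (-(2 * (i : ℤ))) :=
    D.KZ.isStrictlyGE_shift 0 _ (-(2 * (i : ℤ))) (by omega)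
  haveI : (D.KZ⟦(2 * (i : ℤ))⟧).IsStrictlyLE (-(2 * (i : ℤ)) + n) :=
    D.KZ.isStrictlyLE_shift (n : ℤ) _ (-(2 * (i : ℤ)) + n) (by omega)
  have key : ∀ (p' : ℤ) (r : ℤ), 0 ≤ p' → r ≠ -p' →
      ∀ ψ : (singleFunctor _ 0).obj (CohCx.freeSheaf (Opens.grothendieckTopology ↥(CohB1.ProjSpace n A))
        (⊤ : (CohB1.ProjSpace n A).Opens)) ⟶ (singleFunctor _ r).obj (D.KZ.X p'), ψ = 0 := by
    intro p' r hp hr
    obtain ⟨p, rfl⟩ := Int.eq_ofNat_of_zero_le hp
    exact eq_zero_term A n D p r hr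
  obtain ⟨E⟩ := nonempty_equiv_of_terms (CohCx.freeSheaf (Opens.grothendieckTopology ↥(CohB1.ProjSpace n A))
      (⊤ : (CohB1.ProjSpace n A).Opens)) (-(2 * (i : ℤ))) n (D.KZ⟦(2 * (i : ℤ))⟧) (-(i : ℤ)) (by omega) (by omega)
    (fun q hq hq' hne ψ => key (q + 2 * (i : ℤ)) q (by omega) (by omega) ψ)
    (fun q hq hq' ψ => key (q + 2 * (i : ℤ)) (q + 1) (by omega) (by omega) ψ)
    (fun q hq hq' ψ => key (q + 2 * (i : ℤ)) (q - 1) (by omega) (by omega) ψ)
  have hq : ∀ (p' : ℤ), p' = (i : ℤ) → Nonempty (((singleFunctor _ 0).obj (CohCx.freeSheaf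
      (Opens.grothendieckTopology ↥(CohB1.ProjSpace n A)) (⊤ : (CohB1.ProjSpace n A).Opens)) ⟶
        (singleFunctor _ (-(i : ℤ))).obj (D.KZ.X p')) ≃+ Coh.HH (CohB1.ProjSpace n A) (D.term i) i) := by
    rintro _ rfl
    exact nonempty_single_equiv A n D i
  obtain ⟨F⟩ := hq (-(i : ℤ) + 2 * (i : ℤ)) (by ring)
  obtain ⟨a⟩ := nonempty_term_iso A n D i
  obtain ⟨c⟩ := OmegaPn27.nonempty_untwisted n A i hi
  exact ⟨(postEquiv _ (((DerivedCategory.Q).commShiftIso (2 * (i : ℤ))).app D.KZ).symm).trans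
    (E.trans (F.trans ((Euler.hhEquiv (A := A) a i).toAddEquiv.trans c.toAddEquiv)))⟩

end GrothLib.DeRhamPn28
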